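import Cfsg.Agent.H25.Fi23.Group

/-!
Equality of words in the presented `Fi23` may be tested at the ten points of the stabiliser chain.
-/

set_option autoImplicit false

namespace Cfsg.Agent.H87.Fi23Sylow

open Cfsg.Agent.H25.Fi23
open Cfsg.Agent.H45 (force force_eq evalW evalW_append)

/-- the points of the chain -/
def pts : List ℕ := 0 :: C31671.chain.map Lvl.base

theorem stab_prod {C : Cert} (hC : C.OK) : ∀ {lvs : List Lvl},
    chainCheck C lvs = true → ∀ Y : Subgroup (Equiv.Perm (Fin C.n)),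
      (∀ lv ∈ lvs, ∀ l ∈ lv.ls, sg hC l ∈ Y) →
      chainProd lvs * Nat.card ↥(Y ⊓ fixingSubgroup (Equiv.Perm (Fin C.n))
        {x : Fin C.n | (x : ℕ) ∈ lvs.map Lvl.base}) ≤ Nat.card ↥Y := by
  intro lvs
  induction lvs with
  | nil =>
    intro _ Y _
    simpa [chainProd] using Subgroup.card_le_of_le (inf_le_left : Y ⊓ _ ≤ Y)
  | cons lv rest ih =>
    intro h Y hY
    have hlet := chainCheck_letters h
    simp only [chainCheck, Bool.and_eq_true] at h
    obtain ⟨⟨⟨-, hfix⟩, horb⟩, hrest⟩ := h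
    obtain ⟨hb, hcount⟩ := orbLow_sound hC (hlet lv List.mem_cons_self) horb
    let b : Fin C.n := ⟨lv.base, hb⟩
    have h1 := ih hrest (Y ⊓ MulAction.stabilizer _ b) fun lv' hlv' g hg => Subgroup.mem_inf.mpr
        ⟨hY lv' (List.mem_cons_of_mem _ hlv') g hg, by
      have h2 := (List.all_eq_true.mp ((List.all_eq_true.mp hfix) lv' hlv')) g hg
      simp only [Nat.beq_eq] at h2
      rw [MulAction.mem_stabilizer_iff, Equiv.Perm.smul_def]
      apply Fin.ext
      rw [sg_apply hC (hlet lv' (List.mem_cons_of_mem _ hlv') g hg)]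
      exact h2⟩
    have hle : Y ⊓ fixingSubgroup (Equiv.Perm (Fin C.n))
          {x : Fin C.n | (x : ℕ) ∈ (lv :: rest).map Lvl.base} ≤
        (Y ⊓ MulAction.stabilizer _ b) ⊓ fixingSubgroup (Equiv.Perm (Fin C.n))
          {x : Fin C.n | (x : ℕ) ∈ rest.map Lvl.base} := by
      intro g hg
      obtain ⟨hgY, hgf⟩ := Subgroup.mem_inf.mp hg
      rw [mem_fixingSubgroup_iff] at hgf
      refine Subgroup.mem_inf.mpr ⟨Subgroup.mem_inf.mpr ⟨hgY, ?_⟩, ?_⟩
      · exact hgf b (List.mem_cons_self : lv.base ∈ lv.base :: rest.map Lvl.base)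
      · rw [mem_fixingSubgroup_iff]
        intro x hx
        exact hgf x (List.mem_cons_of_mem _ hx)
    have h3 : Nat.card (MulAction.orbit Y b) * Nat.card (MulAction.stabilizer Y b) = Nat.card Y := by
      rw [← Nat.card_prod]
      exact Nat.card_congr (MulAction.orbitProdStabilizerEquivGroup Y b)
    have h4 : Nat.card (MulAction.stabilizer Y b) =
        Nat.card (Y ⊓ MulAction.stabilizer (Equiv.Perm (Fin C.n)) b : Subgroup _) :=
      Nat.card_congr ⟨fun x => ⟨x.1.1, x.1.2, x.2⟩, fun x => ⟨⟨x.1, x.2.1⟩, x.2.2⟩,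
        fun _ => rfl, fun _ => rfl⟩
    rw [← h3, h4]
    show lv.count * chainProd rest * _ ≤ _
    rw [mul_assoc]
    exact Nat.mul_le_mul (hcount Y fun g hg => hY lv List.mem_cons_self g hg)
      ((Nat.mul_le_mul_left _ (Subgroup.card_le_of_le hle)).trans h1)

theorem base_trivial {φ : X →* Equiv.Perm (Fin C31671.cert.n)}
    (hA : Act C31671.cert_ok pres.e φ) (hinj : Function.Injective φ) (hfin : Finite X)
    (hX : Nat.card X = 4089470473293004800) (F : X ⧸ H ≃ Fin C31671.cert.n)
    (hF0 : F (QuotientGroup.mk (1 : X)) = ⟨0, n_pos⟩)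
    (hF : ∀ g : X, ∀ x : X ⧸ H, F (g • x) = φ g (F x))
    {g : X} (hg : ∀ x : Fin C31671.cert.n, (x : ℕ) ∈ pts → φ g x = x) : g = 1 := by
  have hgH : g ∈ H := by
    have h1 : F (g • QuotientGroup.mk (1 : X)) = F (QuotientGroup.mk (1 : X)) := by
      rw [hF, hF0]
      exact hg ⟨0, n_pos⟩ List.mem_cons_self
    have h2 : (QuotientGroup.mk (g * 1) : X ⧸ H) = QuotientGroup.mk (1 : X) := F.injective h1
    have h3 := QuotientGroup.eq.mp h2.symm
    simpa using h3
  have hcH : Nat.card H = 129123503308800 := by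
    have h := H.card_mul_index
    rw [H_index, hX] at h
    exact Nat.eq_of_mul_eq_mul_right (show 0 < 31671 by norm_num) (h.trans (by norm_num))
  have hls : (C31671.chain.all fun lv => lv.ls.all fun l => decide (l ∈ hLetters)) = true := by
    decide +kernel
  have hY : ∀ lv ∈ C31671.chain, ∀ l ∈ lv.ls, sg C31671.cert_ok l ∈ H.map φ := by
    intro lv hlv l hl
    have hl' : l ∈ hLetters := of_decide_eq_true
      (List.all_eq_true.mp (List.all_eq_true.mp hls lv hlv) l hl)
    exact ⟨pres.e l, Subgroup.subset_closure ⟨l, hl', rfl⟩, hA.map l (fix_hLetters l hl').1⟩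
  have h := stab_prod C31671.cert_ok C31671.chain_ok (H.map φ) hY
  rw [C31671.chain_prod, Subgroup.card_map_of_injective hinj, hcH] at h
  set K := H.map φ ⊓ fixingSubgroup (Equiv.Perm (Fin C31671.cert.n))
    {x : Fin C31671.cert.n | (x : ℕ) ∈ C31671.chain.map Lvl.base}
  have hK : K = ⊥ := by
    refine Subgroup.eq_bot_of_card_le K ?_
    refine Nat.le_of_mul_le_mul_left (h.trans (le_of_eq (mul_one _).symm)) ?_
    norm_num
  have hmem : φ g ∈ K := by
    refine Subgroup.mem_inf.mpr ⟨Subgroup.mem_map_of_mem φ hgH, ?_⟩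
    rw [mem_fixingSubgroup_iff]
    intro x hx
    exact hg x (List.mem_cons_of_mem _ hx)
  rw [hK, Subgroup.mem_bot] at hmem
  exact hinj (hmem.trans (map_one φ).symm)

/-- a walk as a continuation-free test -/
noncomputable def eqP (t : Tr) (u v : List ℕ) : Bool :=
  (u ++ v).all (fun l => Nat.blt l 10) &&
    pts.all fun p => walk t u p fun a => walk t v p fun b => Nat.beq a b

theorem eqP_sound {u v : List ℕ} (h : eqP C31671.cert.t u v = true) :
    evalW pres.e u = evalW pres.e v := by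
  obtain ⟨hfin, hX, φ, hA, hinj, -, F, hF0, hF⟩ := order_facts
  simp only [eqP, Bool.and_eq_true, List.all_eq_true, walk_eq, Nat.beq_eq, Nat.blt_eq,
    List.mem_append] at h
  obtain ⟨hlt, hpt⟩ := h
  have hu : ∀ l ∈ u, l < C31671.cert.L := fun l hl => hlt l (Or.inl hl)
  have hv : ∀ l ∈ v, l < C31671.cert.L := fun l hl => hlt l (Or.inr hl)
  have key : evalW pres.e v * (evalW pres.e u)⁻¹ = 1 := by
    refine base_trivial hA hinj hfin hX F hF0 hF fun x hx => ?_
    rw [map_mul, map_inv, Equiv.Perm.mul_apply, hA.evalW u hu, hA.evalW v hv]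
    have hxy : (evalW (sg C31671.cert_ok) u)⁻¹ x = (evalW (sg C31671.cert_ok) v)⁻¹ x := by
      apply Fin.ext
      rw [sg_walk _ u hu, sg_walk _ v hv]
      exact hpt x hx
    rw [hxy, ← Equiv.Perm.mul_apply, mul_inv_cancel, Equiv.Perm.one_apply]
  exact (mul_inv_eq_one.mp key).symm

end Cfsg.Agent.H87.Fi23Sylow
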