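import Cfsg.Agent.H87.Fi23Sylow.Vec

/-!
A bound for the elementary abelian subgroups of a chain group, from finite checks on the matrices:
fixed spaces of involutions and pairs of them, and a search for large commuting sets.
-/

set_option autoImplicit false

namespace Cfsg.Agent.H87.Fi23Sylow

/-- the vectors `mv cs s` span a complement to the common fixed space of `ms` -/
def indep (n : ℕ) (ms : List (List ℕ)) (cs : List ℕ) : Bool :=
  cs.all (fun c => decide (c < 2 ^ n)) &&
    (List.range (2 ^ cs.length)).all fun s =>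
      Nat.beq s 0 || ms.any fun M => !Nat.beq (mv M (mv cs s)) (mv cs s)

/-- the common fixed vectors -/
def fixVec (n : ℕ) (ms : List (List ℕ)) : Finset ℕ :=
  (Finset.range (2 ^ n)).filter fun v => ∀ M ∈ ms, mv M v = v

theorem indep_sound {n : ℕ} {ms : List (List ℕ)} {cs : List ℕ} (h : indep n ms cs = true) :
    (fixVec n ms).card * 2 ^ cs.length ≤ 2 ^ n := by
  simp only [indep, Bool.and_eq_true, List.all_eq_true, decide_eq_true_eq, List.mem_range] at h
  obtain ⟨hlt, hs⟩ := h
  have hmap : ∀ p ∈ fixVec n ms ×ˢ Finset.range (2 ^ cs.length),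
      p.1 ^^^ mv cs p.2 ∈ Finset.range (2 ^ n) := by
    intro p hp
    simp only [fixVec, Finset.mem_product, Finset.mem_filter, Finset.mem_range] at hp
    exact Finset.mem_range.mpr (Nat.xor_lt_two_pow hp.1.1 (mv_lt cs hlt _))
  have hinj : Set.InjOn (fun p : ℕ × ℕ => p.1 ^^^ mv cs p.2)
      (fixVec n ms ×ˢ Finset.range (2 ^ cs.length) : Finset (ℕ × ℕ)) := by
    rintro ⟨f, s⟩ hp ⟨f', s'⟩ hp' he
    simp only [Finset.mem_coe, fixVec, Finset.mem_product, Finset.mem_filter,
      Finset.mem_range] at hp hp'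
    simp only at he
    have hw : mv cs (s ^^^ s') = f ^^^ f' := by
      rw [mv_xor]
      calc mv cs s ^^^ mv cs s'
          = (f ^^^ f ^^^ mv cs s) ^^^ mv cs s' := by rw [Nat.xor_self, Nat.zero_xor]
        _ = (f ^^^ (f ^^^ mv cs s)) ^^^ mv cs s' := by rw [Nat.xor_assoc f f]
        _ = f ^^^ (f' ^^^ mv cs s') ^^^ mv cs s' := by rw [he]
        _ = f ^^^ f' := by rw [← Nat.xor_assoc, Nat.xor_assoc, Nat.xor_self, Nat.xor_zero]
    have h0 : s ^^^ s' = 0 := by
      have h1 := hs _ (Nat.xor_lt_two_pow hp.2 hp'.2)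
      simp only [Bool.or_eq_true, Nat.beq_eq, List.any_eq_true, Bool.not_eq_true'] at h1
      rcases h1 with h1 | ⟨M, hM, h1⟩
      · exact h1
      · have h2 : mv M (f ^^^ f') = f ^^^ f' := by rw [mv_xor, hp.1.2 M hM, hp'.1.2 M hM]
        rw [hw] at h1
        rw [h2] at h1
        simp at h1
    have hss : s = s' := by simpa using congrArg (· ^^^ s') h0
    subst hss
    simp only [Prod.mk.injEq, and_true]
    simpa [Nat.xor_assoc] using congrArg (· ^^^ mv cs s) he
  have := Finset.card_le_card_of_injOn (fun p : ℕ × ℕ => p.1 ^^^ mv cs p.2) hmap hinj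
  simpa using this

/-- one level of the search: each candidate in turn joins the span -/
def searchRow (cm : ℕ → ℕ → Bool) (mt : ℕ → ℕ → ℕ) (f : List ℕ → List ℕ → Bool) :
    List ℕ → List ℕ → Bool
  | [], _ => true
  | x :: rest, span => searchRow cm mt f rest span &&
      (fun sp => f (rest.filter fun y => cm x y && !(sp.any (Nat.beq y))) sp)
        (span ++ x :: span.map (mt x))

/-- no chain of five independent commuting indices -/
def search (cm : ℕ → ℕ → Bool) (mt : ℕ → ℕ → ℕ) : ℕ → List ℕ → List ℕ → Bool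
  | 0 => fun _ _ => false
  | k + 1 => searchRow cm mt (search cm mt k)

theorem search_sound {cm : ℕ → ℕ → Bool} {mt : ℕ → ℕ → ℕ} {S : Finset ℕ}
    (hS : ∀ x ∈ S, ∀ y ∈ S, cm x y = true) :
    ∀ (k : ℕ) (cands span : List ℕ), search cm mt k cands span = true →
      span.length + 1 ≤ 2 ^ (5 - k) → k ≤ 5 → (∀ x ∈ S, x ∈ span ∨ x ∈ cands) → S.card ≤ 15 := by
  intro k
  induction k with
  | zero => intro _ _ h; simp [search] at h
  | succ k ihk =>
    intro cands
    induction cands with
    | nil =>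
      intro span _ hlen hk hsub
      have h16 : span.length + 1 ≤ 16 :=
        hlen.trans (Nat.pow_le_pow_right (by norm_num) (show 5 - (k + 1) ≤ 4 by omega))
      have hS' : S ⊆ span.toFinset := fun x hx => by simpa using hsub x hx
      have := (Finset.card_le_card hS').trans (List.toFinset_card_le span)
      omega
    | cons x rest ihr =>
      intro span h hlen hk hsub
      simp only [search, searchRow, Bool.and_eq_true] at h
      by_cases hx : x ∈ S
      · refine ihk _ _ h.2 ?_ (by omega) fun y hy => ?_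
        · simp only [List.length_append, List.length_cons, List.length_map]
          rw [show 5 - k = 5 - (k + 1) + 1 by omega, pow_succ]
          omega
        · by_cases hys : y ∈ span ++ x :: span.map (mt x)
          · exact Or.inl hys
          · right
            rcases hsub y hy with h' | h'
            · exact absurd (List.mem_append_left _ h') hys
            · rcases List.mem_cons.mp h' with rfl | h'
              · exact absurd (List.mem_append_right _ List.mem_cons_self) hys
              · simp only [List.mem_filter, Bool.and_eq_true, Bool.not_eq_true', List.any_eq_false,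
                  Nat.beq_eq]
                exact ⟨h', hS x hx y hy, fun z hz e => hys (e ▸ hz)⟩
      · refine ihr span h.1 hlen hk fun y hy => ?_
        rcases hsub y hy with h' | h'
        · exact Or.inl h'
        · rcases List.mem_cons.mp h' with rfl | h'
          · exact absurd hy hx
          · exact Or.inr h'

/-- the finite hypotheses: a list of the involutory matrices, the identity first -/
structure Checks (n : ℕ) (Ms Js : List (List ℕ)) (cm : ℕ → ℕ → Bool) (mt : ℕ → ℕ → ℕ) : Prop where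
  len : Js.length ≤ 64
  head : Js.head? = some (idM n)
  cover : ∀ M ∈ Ms, M ∈ Js ∨ comp M M ≠ idM n
  comm : ∀ i, i < Js.length → ∀ j, j < Js.length →
    comp (Js.getD i []) (Js.getD j []) = comp (Js.getD j []) (Js.getD i []) → cm i j = true
  one : ∀ i, 0 < i → i < Js.length → ∃ cs, cs.length = 4 ∧ indep n [Js.getD i []] cs = true
  two : ∀ i, 0 < i → i < Js.length → ∀ j, 0 < j → j < Js.length → i ≠ j →
    ∃ cs, cs.length = 5 ∧ indep n [Js.getD i [], Js.getD j []] cs = true
  small : search cm mt 5 (List.range' 1 (Js.length - 1)) [] = true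

variable {G : Type*} [Group G]

theorem ea_bound [Finite G] {es : List G} (hB : Basis es) {gs : List (G × List ℕ)} (hgood : Good hB gs)
    (hn : es.length = 11) {Js : List (List ℕ)} {cm : ℕ → ℕ → Bool} {mt : ℕ → ℕ → ℕ}
    (hK : Checks es.length (msOf es.length (gs.map Prod.snd)) Js cm mt)
    {A : Subgroup G} (hA : A ≤ uOf hB gs) (hcomm : ∀ a ∈ A, ∀ b ∈ A, a * b = b * a)
    (hsq : ∀ a ∈ A, a * a = 1) :
    A ≤ hB.span ∨ Nat.card A ≤ 2 ^ 10 := by
  classical
  have := Fintype.ofFinite G
  obtain ⟨-, hmem⟩ := chain_facts hB hgood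
  have hidx : ∀ a ∈ A, ∃ i, i < Js.length ∧ Rep es a (Js.getD i []) ∧ (i = 0 → a ∈ hB.span) := by
    intro a ha
    obtain ⟨M, hM, hr, hid⟩ := hmem a (hA ha)
    have h1 : Rep es (a * a) (comp M M) := hr.mul hB hr
    rw [hsq a ha] at h1
    have hJ := (hK.cover M hM).resolve_right fun h => h (h1.uniq hB (rep_id fun x _ => by simp))
    obtain ⟨i, hi, rfl⟩ := List.getElem_of_mem hJ
    refine ⟨i, hi, by rw [List.getD_eq_getElem _ _ hi]; exact hr, ?_⟩
    rintro rfl
    refine hid ?_
    have := hK.head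
    rw [List.head?_eq_getElem?, List.getElem?_eq_getElem hi] at this
    exact Option.some.inj this
  choose! idx hi hrep hzero using hidx
  by_cases hall : ∀ a ∈ A, idx a = 0
  · exact Or.inl fun a ha => hzero a ha (hall a ha)
  push Not at hall
  obtain ⟨a₁, ha₁, hne₁⟩ := hall
  right
  let AF : Finset G := (A : Set G).toFinset
  have hAF : Nat.card A = AF.card := by
    rw [← SetLike.coe_sort_coe, Nat.card_coe_set_eq, Set.ncard_eq_toFinset_card']
  have hmemF : ∀ {a}, a ∈ AF ↔ a ∈ A := fun {a} => Set.mem_toFinset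
  set S := AF.image idx
  set S1 := S.erase 0
  have hS1 : ∀ i ∈ S1, 0 < i ∧ i < Js.length ∧ ∃ a ∈ A, idx a = i := by
    intro i hi'
    obtain ⟨h0, h⟩ := Finset.mem_erase.mp hi'
    obtain ⟨a, ha, rfl⟩ := Finset.mem_image.mp h
    exact ⟨Nat.pos_of_ne_zero h0, hi a (hmemF.mp ha), a, hmemF.mp ha, rfl⟩
  have hcm : ∀ x ∈ S1, ∀ y ∈ S1, cm x y = true := by
    intro x hx y hy
    obtain ⟨-, hxl, a, ha, rfl⟩ := hS1 x hx
    obtain ⟨-, hyl, b, hb, rfl⟩ := hS1 y hy
    refine hK.comm _ hxl _ hyl (((hrep a ha).mul hB (hrep b hb)).uniq hB ?_)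
    rw [hcomm a ha b hb]
    exact (hrep b hb).mul hB (hrep a ha)
  have h15 : S1.card ≤ 15 := search_sound hcm 5 _ [] hK.small (by simp) le_rfl fun x hx => by
    obtain ⟨h0, hl, -⟩ := hS1 x hx
    exact Or.inr (List.mem_range'_1.mpr ⟨h0, by omega⟩)
  have hScard : S.card ≤ S1.card + 1 := by
    have h : S.card - 1 ≤ S1.card := Finset.pred_card_le_card_erase
    omega
  have hfib : ∀ ms : List (List ℕ), (∀ M ∈ ms, ∃ a ∈ A, Rep es a M) →
      AF.card ≤ (fixVec es.length ms).card * S.card := by
    intro ms hms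
    refine Finset.card_le_mul_card_image AF _ fun b hb => ?_
    obtain ⟨a₀, ha₀, rfl⟩ := Finset.mem_image.mp hb
    have hin : ∀ a ∈ AF.filter (fun a => idx a = idx a₀),
        ∃ v ∈ fixVec es.length ms, ev es v = a₀ * a := by
      intro a ha
      obtain ⟨ha, he⟩ := Finset.mem_filter.mp ha
      have haA := hmemF.mp ha
      have ha₀A := hmemF.mp ha₀
      have h1 : Rep es (a₀ * a) (idM es.length) := by
        have h2 := (hrep a₀ ha₀A).mul hB (hrep a haA)
        rw [he] at h2
        have h3 := (hrep a₀ ha₀A).mul hB (hrep a₀ ha₀A)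
        rw [hsq a₀ ha₀A] at h3
        rwa [h3.uniq hB (rep_id fun x _ => by simp)] at h2
      obtain ⟨M, -, hr, hid⟩ := hmem _ (hA (A.mul_mem ha₀A haA))
      obtain ⟨v, hv, hev⟩ := hid (hr.uniq hB h1)
      refine ⟨v, Finset.mem_filter.mpr ⟨Finset.mem_range.mpr hv, fun N hN => ?_⟩, hev⟩
      obtain ⟨c, hc, hcN⟩ := hms N hN
      refine hB.eq_of (mv_lt _ hcN.lt v) hv ?_
      rw [← hcN.apply hB v, hev, hcomm c hc _ (A.mul_mem ha₀A haA), mul_assoc, mul_inv_cancel, mul_one]
    choose! v hv hev using hin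
    refine Finset.card_le_card_of_injOn v hv fun a ha b hb' he => ?_
    exact mul_left_cancel ((hev a ha).symm.trans (he ▸ hev b hb'))
  rw [hAF]
  by_cases htwo : ∃ i ∈ S1, i ≠ idx a₁
  · obtain ⟨i, hi1, hne⟩ := htwo
    obtain ⟨hi0, hil, a, ha, rfl⟩ := hS1 i hi1
    obtain ⟨cs, hcl, hind⟩ := hK.two _ (Nat.pos_of_ne_zero hne₁) (hi a₁ ha₁) _ hi0 hil (Ne.symm hne)
    have hf := indep_sound hind
    rw [hcl, hn] at hf
    have := hfib [Js.getD (idx a₁) [], Js.getD (idx a) []] fun M hM => by
      simp only [List.mem_cons, List.not_mem_nil, or_false] at hM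
      rcases hM with rfl | rfl
      · exact ⟨a₁, ha₁, hrep a₁ ha₁⟩
      · exact ⟨a, ha, hrep a ha⟩
    rw [hn] at this
    calc AF.card ≤ _ := this
      _ ≤ 64 * 16 := Nat.mul_le_mul (by omega) (by omega)
      _ = 2 ^ 10 := by norm_num
  · push Not at htwo
    have h1 : S1.card ≤ 1 := Finset.card_le_one.mpr fun x hx y hy => (htwo x hx).trans (htwo y hy).symm
    obtain ⟨cs, hcl, hind⟩ := hK.one _ (Nat.pos_of_ne_zero hne₁) (hi a₁ ha₁)
    have hf := indep_sound hind
    rw [hcl, hn] at hf
    have := hfib [Js.getD (idx a₁) []] fun M hM => by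
      simp only [List.mem_cons, List.not_mem_nil, or_false] at hM
      exact ⟨a₁, ha₁, hM ▸ hrep a₁ ha₁⟩
    rw [hn] at this
    calc AF.card ≤ _ := this
      _ ≤ 128 * 2 := Nat.mul_le_mul (by omega) (by omega)
      _ ≤ 2 ^ 10 := by norm_num

end Cfsg.Agent.H87.Fi23Sylow
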