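import Cfsg.Agent.H87.Fi23Sylow.Base
import Cfsg.Agent.H87.Fi23Sylow.Bound
import Cfsg.Agent.H87.Fi23Sylow.Data

/-!
The checks on the words, and what they mean in the presented group.
-/

set_option autoImplicit false

namespace Cfsg.Agent.H87.Fi23Sylow

open Cfsg.Agent.H25.Fi23
open Cfsg.Agent.H45 (force force_eq evalW evalW_cons evalW_nil evalW_append)

/-- all corresponding pairs of two lists of the same length pass a test -/
def allZ {α β : Type} (f : α → β → Bool) : List α → List β → Bool
  | [], [] => true
  | a :: as, b :: bs => f a b && allZ f as bs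
  | _, _ => false

theorem allZ_map {α β γ : Type} {f : α → β → Bool} {u : α → γ} {v : β → γ}
    (hf : ∀ a b, f a b = true → u a = v b) :
    ∀ {as : List α} {bs : List β}, allZ f as bs = true → as.map u = bs.map v
  | [], [], _ => rfl
  | [], _ :: _, h => by simp [allZ] at h
  | _ :: _, [], h => by simp [allZ] at h
  | a :: as, b :: bs, h => by
    simp only [allZ, Bool.and_eq_true] at h
    simp only [List.map_cons, hf a b h.1, allZ_map hf h.2]

theorem allZ_mem {α β : Type} {f : α → β → Bool} :
    ∀ {as : List α} {bs : List β}, allZ f as bs = true → ∀ a ∈ as, ∃ b, f a b = true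
  | [], _, _, a, ha => by simp at ha
  | _ :: _, [], h, _, _ => by simp [allZ] at h
  | a :: as, b :: bs, h, x, hx => by
    simp only [allZ, Bool.and_eq_true] at h
    rcases List.mem_cons.mp hx with rfl | hx
    · exact ⟨b, h.1⟩
    · exact allZ_mem h.2 x hx

/-- the word of a product of transpositions -/
def evWord : List (List ℕ) → ℕ → List ℕ
  | [], _ => []
  | e :: es, v => cond (Nat.beq (v % 2) 1) e [] ++ evWord es (v / 2)

/-- the element of a word -/
noncomputable def el (w : List ℕ) : X := evalW pres.e w

theorem ev_evWord : ∀ (ws : List (List ℕ)) (v : ℕ), el (evWord ws v) = ev (ws.map el) v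
  | [], _ => by simp [evWord, ev, el, evalW_nil]
  | e :: es, v => by
    have ih := ev_evWord es (v / 2)
    unfold el at ih ⊢
    rw [evWord, evalW_append, ih]
    cases h : Nat.beq (v % 2) 1 <;> simp [ev, h, evalW_nil]

/-- no product maps the tuple back -/
noncomputable def walkL (t : Tr) (w : List ℕ) : List ℕ → (List ℕ → Bool) → Bool
  | [], k => k []
  | p :: ps, k => walk t w p fun a => walkL t w ps fun as => k (a :: as)

theorem walkL_eq (t : Tr) (w : List ℕ) : ∀ (ps : List ℕ) (k : List ℕ → Bool),
    walkL t w ps k = k (ps.map (walkV t w)) := by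
  intro ps
  induction ps with
  | nil => intro k; rfl
  | cons p ps ih => intro k; simp [walkL, walk_eq, ih]

/-- no product of the words maps the tuple `q` back -/
noncomputable def avoid (t : Tr) : List (List ℕ) → List ℕ → Bool
  | [], q => !(q == sepPts)
  | e :: es, q => avoid t es q && walkL t e q fun q' => avoid t es q'

/-- the words are independent -/
noncomputable def indW (t : Tr) : List (List ℕ) → Bool
  | [] => true
  | e :: es => indW t es && walkL t e sepPts fun q => avoid t es q

theorem avoid_sound (t : Tr) : ∀ {ws : List (List ℕ)} {q : List ℕ}, avoid t ws q = true →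
    ∀ v, v < 2 ^ ws.length → q.map (walkV t (evWord ws v)) ≠ sepPts
  | [], q, h, v, _ => by
    simp only [avoid, Bool.not_eq_true'] at h
    simp only [evWord]
    intro he
    have : q = sepPts := by simpa [walkV] using he
    simp [this] at h
  | e :: es, q, h, v, hv => by
    simp only [avoid, Bool.and_eq_true, walkL_eq] at h
    have hv2 : v / 2 < 2 ^ es.length := by
      rw [List.length_cons, pow_succ] at hv; omega
    simp only [evWord]
    cases Nat.beq (v % 2) 1
    · simpa using avoid_sound t h.1 _ hv2
    · have := avoid_sound t h.2 _ hv2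
      rw [List.map_map] at this
      intro hq
      apply this
      rw [← hq]
      exact List.map_congr_left fun x _ => (walkV_append t e _ x).symm

theorem indW_sound (t : Tr) : ∀ {ws : List (List ℕ)}, indW t ws = true →
    ∀ v, v < 2 ^ ws.length → sepPts.map (walkV t (evWord ws v)) = sepPts → v = 0
  | [], _, v, hv, _ => by simpa using hv
  | e :: es, h, v, hv, he => by
    simp only [indW, Bool.and_eq_true, walkL_eq] at h
    have hv2 : v / 2 < 2 ^ es.length := by
      rw [List.length_cons, pow_succ] at hv; omega
    simp only [evWord] at he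
    cases hb : Nat.beq (v % 2) 1
    · rw [hb] at he
      have h0 := indW_sound t h.1 _ hv2 (by simpa using he)
      have hm : v % 2 = 0 := by
        rcases Nat.mod_two_eq_zero_or_one v with hm | hm
        · exact hm
        · simp [hm] at hb
      omega
    · rw [hb] at he
      refine absurd ?_ (avoid_sound t h.2 _ hv2)
      rw [List.map_map]
      refine Eq.trans ?_ he
      exact List.map_congr_left fun x _ => (walkV_append t e _ x).symm

/-- the transpositions form a basis -/
noncomputable def basisB (t : Tr) (ws : List (List ℕ)) : Bool :=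
  ws.all (fun w => w.all fun l => Nat.blt l 10) && ws.all (fun w => eqP t (w ++ w) []) &&
    (ws.all fun u => ws.all fun v => eqP t (u ++ v) (v ++ u)) &&
    sepPts.all (fun p => Nat.blt p C31671.cert.n) && indW t ws

theorem evWord_lt : ∀ {ws : List (List ℕ)}, (∀ w ∈ ws, ∀ l ∈ w, l < 10) →
    ∀ v, ∀ l ∈ evWord ws v, l < 10
  | [], _, v, l, hl => by simp [evWord] at hl
  | e :: es, h, v, l, hl => by
    simp only [evWord, List.mem_append] at hl
    rcases hl with hl | hl
    · cases hb : Nat.beq (v % 2) 1
      · simp [hb] at hl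
      · rw [hb] at hl; exact h e List.mem_cons_self l hl
    · exact evWord_lt (fun w hw => h w (List.mem_cons_of_mem _ hw)) _ l hl

theorem basisB_sound {ws : List (List ℕ)} (h : basisB C31671.cert.t ws = true) :
    Basis (ws.map el) := by
  simp only [basisB, Bool.and_eq_true, List.all_eq_true, Nat.blt_eq] at h
  obtain ⟨⟨⟨⟨hlt, hsq⟩, hcomm⟩, hsep⟩, hind⟩ := h
  refine ⟨?_, ?_, fun v hv he => ?_⟩
  · simp only [List.mem_map]
    rintro _ ⟨u, hu, rfl⟩ _ ⟨w, hw, rfl⟩
    have := eqP_sound (hcomm u hu w hw)
    rwa [evalW_append, evalW_append] at this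
  · simp only [List.mem_map]
    rintro _ ⟨u, hu, rfl⟩
    have := eqP_sound (hsq u hu)
    rwa [evalW_append, evalW_nil] at this
  · rw [List.length_map] at hv
    refine indW_sound _ hind v hv ?_
    obtain ⟨-, -, φ, hA, -⟩ := order_facts
    conv_rhs => rw [← List.map_id sepPts]
    refine List.map_congr_left fun p hp => ?_
    show _ = p
    have hw : ∀ l ∈ evWord ws v, l < C31671.cert.L := evWord_lt hlt v
    have h1 : φ (evalW pres.e (evWord ws v)) = 1 := by
      rw [show evalW pres.e (evWord ws v) = el (evWord ws v) from rfl, ev_evWord, he, map_one]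
    rw [hA.evalW _ hw] at h1
    have h2 := sg_walk C31671.cert_ok _ hw ⟨p, hsep p hp⟩
    rw [h1] at h2
    simpa using h2.symm

/-- the chain passes the checks -/
noncomputable def goodB (t : Tr) (ws : List (List ℕ)) :
    List (List ℕ × List ℕ) → List (List (List ℕ × ℕ)) → Bool
  | [], _ => true
  | _ :: _, [] => false
  | (w, M) :: rest, c :: cs =>
    eqP t (w ++ w) [] && Nat.beq M.length ws.length && M.all (fun x => Nat.blt x (2 ^ ws.length)) &&
      allZ (fun e x => eqP t (w ++ e ++ w) (evWord ws x)) ws M &&
      allZ (fun q lv => Nat.blt lv.2 (2 ^ ws.length) && eqP t (w ++ q.1 ++ w)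
        ((lv.1.map fun i => (rest.getD i ([], [])).1).flatten ++ evWord ws lv.2)) rest c &&
      (msOf ws.length (rest.map Prod.snd)).all (fun N => !(N == M)) && goodB t ws rest cs

theorem mem_uOf {es : List X} (hB : Basis es) : ∀ {gs : List (X × List ℕ)}, ∀ p ∈ gs, p.1 ∈ uOf hB gs
  | [], p, hp => by simp at hp
  | q :: rest, p, hp => by
    rcases List.mem_cons.mp hp with rfl | hp
    · exact Subgroup.mem_sup_right (Subgroup.mem_zpowers _)
    · exact Subgroup.mem_sup_left (mem_uOf hB p hp)

theorem goodB_sound {ws : List (List ℕ)} (hB : Basis (ws.map el)) :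
    ∀ {gs : List (List ℕ × List ℕ)} {cs : List (List (List ℕ × ℕ))},
      goodB C31671.cert.t ws gs cs = true → Good hB (gs.map fun p => (el p.1, p.2))
  | [], _, _ => trivial
  | _ :: _, [], h => by simp [goodB] at h
  | (w, M) :: rest, c :: cs, h => by
    simp only [goodB, Bool.and_eq_true, List.all_eq_true, Nat.beq_eq, Nat.blt_eq,
      Bool.not_eq_true', beq_eq_false_iff_ne] at h
    obtain ⟨⟨⟨⟨⟨⟨hsq, hlen⟩, hlt⟩, hrep⟩, hconj⟩, hnew⟩, hrest⟩ := h
    have hww : el w * el w = 1 := by
      have := eqP_sound hsq
      rwa [evalW_append, evalW_nil] at this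
    have hinv : (el w)⁻¹ = el w := inv_eq_of_mul_eq_one_right hww
    refine ⟨hww, ⟨by simpa using hlen, by simpa using hlt, ?_⟩, ?_, ?_, goodB_sound hB hrest⟩
    · rw [List.map_map]
      refine allZ_map (fun e x he => ?_) hrep
      have := eqP_sound he
      rw [evalW_append, evalW_append] at this
      show el w * el e * (el w)⁻¹ = _
      rw [hinv, ← ev_evWord]
      exact this
    · simp only [List.mem_map]
      rintro _ ⟨q, hq, rfl⟩
      obtain ⟨lv, hlv⟩ := allZ_mem hconj q hq
      simp only [Bool.and_eq_true, Nat.blt_eq] at hlv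
      have := eqP_sound hlv.2
      rw [evalW_append, evalW_append, evalW_append] at this
      show el w * el q.1 * (el w)⁻¹ ∈ _
      rw [hinv, el, el, this]
      refine mul_mem ?_ (span_le_uOf hB _ ⟨lv.2, by simpa using hlv.1, (ev_evWord ws lv.2).symm⟩)
      induction lv.1 with
      | nil => rw [List.map_nil, List.flatten_nil, evalW_nil]; exact one_mem _
      | cons i is ih =>
        rw [List.map_cons, List.flatten_cons, evalW_append]
        refine mul_mem ?_ ih
        by_cases hi : i < rest.length
        · rw [List.getD_eq_getElem _ _ hi]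
          exact mem_uOf hB (el (rest[i]).1, (rest[i]).2)
            (List.mem_map.mpr ⟨rest[i], List.getElem_mem hi, rfl⟩)
        · rw [List.getD_eq_default _ _ (not_lt.mp hi), evalW_nil]
          exact one_mem _
    · simp only [List.length_map, List.map_map, Function.comp_def]
      exact fun hM => hnew M hM rfl

/-- commuting indices -/
def cm (i j : ℕ) : Bool := Nat.testBit (cmD.getD i 0) j

/-- products of indices -/
def mt (i j : ℕ) : ℕ := (mtD.getD i 0 >>> (8 * j)) % 256

/-- the finite checks -/
def checksB (n : ℕ) (Ms : List (List ℕ)) : Bool :=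
  Nat.ble Js.length 64 && (Js.head? == some (idM n)) &&
    Ms.all (fun M => Js.contains M || !(comp M M == idM n)) &&
    ((List.range Js.length).all fun i => (List.range Js.length).all fun j =>
      cm i j || !(comp (Js.getD i []) (Js.getD j []) == comp (Js.getD j []) (Js.getD i []))) &&
    ((List.range' 1 (Js.length - 1)).all fun i =>
      Nat.beq (oneD.getD i []).length 4 && indep n [Js.getD i []] (oneD.getD i [])) &&
    ((List.range' 1 (Js.length - 1)).all fun i => (List.range' 1 (Js.length - 1)).all fun j =>
      Nat.beq i j || indep n [Js.getD i [], Js.getD j []]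
        (oneD.getD i [] ++ [(twoD.getD i 0 >>> (16 * j)) % 65536])) &&
    search cm mt 5 (List.range' 1 (Js.length - 1)) []

theorem checksB_sound {n : ℕ} {Ms : List (List ℕ)} (h : checksB n Ms = true) :
    Checks n Ms Js cm mt := by
  simp only [checksB, Bool.and_eq_true, List.all_eq_true, Nat.ble_eq, Bool.or_eq_true,
    Bool.not_eq_true', List.mem_range, beq_iff_eq, Nat.beq_eq, List.contains_iff_mem,
    beq_eq_false_iff_ne] at h
  obtain ⟨⟨⟨⟨⟨⟨h1, h2⟩, h3⟩, h4⟩, h5⟩, h6⟩, h7⟩ := h
  have hr : ∀ i, 0 < i → i < Js.length → i ∈ List.range' 1 (Js.length - 1) :=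
    fun i a b => List.mem_range'_1.mpr ⟨a, by omega⟩
  refine ⟨h1, h2, h3, fun i hi j hj he => (h4 i hi j hj).resolve_right fun hn => hn he,
    fun i hi0 hi => ⟨_, (h5 i (hr i hi0 hi)).1, (h5 i (hr i hi0 hi)).2⟩, ?_, h7⟩
  intro i hi0 hi j hj0 hj hne
  refine ⟨_, ?_, ((h6 i (hr i hi0 hi) j (hr j hj0 hj)).resolve_left hne)⟩
  rw [List.length_append, (h5 i (hr i hi0 hi)).1]
  rfl

end Cfsg.Agent.H87.Fi23Sylow
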