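import Cfsg.Agent.H87.Fi23Sylow.FactsBase

/-!
The checks hold.
-/

set_option autoImplicit false
set_option Elab.async false

namespace Cfsg.Agent.H87.Fi23Sylow

open Cfsg.Agent.H25.Fi23

set_option maxRecDepth 100000 in
theorem checks_head : (Nat.ble Js.length 64 && (Js.head? == some (idM 11)) &&
    ((msOf 11 (gP.map Prod.snd))).all (fun M => Js.contains M || !(comp M M == idM 11))) = true := by decide +kernel

set_option maxRecDepth 100000 in
theorem checks_comm : ((List.range Js.length).all fun i => (List.range Js.length).all fun j =>
    cm i j || !(comp (Js.getD i []) (Js.getD j []) == comp (Js.getD j []) (Js.getD i []))) = true := by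
  decide +kernel

set_option maxRecDepth 100000 in
theorem checks_one : ((List.range' 1 (Js.length - 1)).all fun i =>
    Nat.beq (oneD.getD i []).length 4 && indep 11 [Js.getD i []] (oneD.getD i [])) = true := by
  decide +kernel

/-- One row of the check on pairs. -/
noncomputable def twoRow (i : ℕ) : Bool :=
  (List.range' 1 (Js.length - 1)).all fun j =>
    Nat.beq i j || indep 11 [Js.getD i [], Js.getD j []]
      (oneD.getD i [] ++ [(twoD.getD i 0 >>> (16 * j)) % 65536])

set_option maxRecDepth 100000 in
theorem checks_two_0 : ((List.range' 1 16).all fun i => Nat.ble Js.length i || twoRow i) = true := by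
  decide +kernel

set_option maxRecDepth 100000 in
theorem checks_two_1 : ((List.range' 17 16).all fun i => Nat.ble Js.length i || twoRow i) = true := by
  decide +kernel

set_option maxRecDepth 100000 in
theorem checks_two_2 : ((List.range' 33 16).all fun i => Nat.ble Js.length i || twoRow i) = true := by
  decide +kernel

set_option maxRecDepth 100000 in
theorem checks_two_3 : ((List.range' 49 16).all fun i => Nat.ble Js.length i || twoRow i) = true := by
  decide +kernel

theorem checks_two : ((List.range' 1 (Js.length - 1)).all fun i => (List.range' 1 (Js.length - 1)).all fun j =>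
    Nat.beq i j || indep 11 [Js.getD i [], Js.getD j []]
      (oneD.getD i [] ++ [(twoD.getD i 0 >>> (16 * j)) % 65536])) = true := by
  have hlen : Js.length ≤ 64 := by
    have h := checks_head
    simp only [Bool.and_eq_true, Nat.ble_eq] at h
    exact h.1.1
  refine List.all_eq_true.2 fun i hi => ?_
  rw [List.mem_range'_1] at hi
  have h : (Nat.ble Js.length i || twoRow i) = true := by
    rcases Nat.lt_or_ge i 17 with h | h
    · exact List.all_eq_true.1 checks_two_0 i (List.mem_range'_1.2 ⟨by omega, by omega⟩)
    rcases Nat.lt_or_ge i 33 with h | h
    · exact List.all_eq_true.1 checks_two_1 i (List.mem_range'_1.2 ⟨by omega, by omega⟩)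
    rcases Nat.lt_or_ge i 49 with h | h
    · exact List.all_eq_true.1 checks_two_2 i (List.mem_range'_1.2 ⟨by omega, by omega⟩)
    exact List.all_eq_true.1 checks_two_3 i (List.mem_range'_1.2 ⟨by omega, by omega⟩)
  rcases (Bool.or_eq_true _ _).mp h with h | h
  · rw [Nat.ble_eq] at h
    omega
  · exact h

set_option maxRecDepth 100000 in
theorem checks_search : search cm mt 5 (List.range' 1 (Js.length - 1)) [] = true := by decide +kernel

theorem checks_ok : checksB 11 (msOf 11 (gP.map Prod.snd)) = true := by
  have h := checks_head
  rw [checksB, h, checks_comm, checks_one, checks_two, checks_search]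
  rfl

end Cfsg.Agent.H87.Fi23Sylow
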