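import Cfsg.Agent.H87.Fi23Sylow.Checks

/-!
The basis and the conjugation data check.
-/

set_option autoImplicit false
set_option Elab.async false

namespace Cfsg.Agent.H87.Fi23Sylow

open Cfsg.Agent.H25.Fi23

set_option maxRecDepth 100000 in
theorem eW_ok : basisB C31671.cert.t eW = true := by decide +kernel

set_option maxRecDepth 100000 in
theorem gP_ok : goodB C31671.cert.t eW gP conjD = true := by decide +kernel

end Cfsg.Agent.H87.Fi23Sylow
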