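import Cfsg.Agent.H87.Fi23Sylow.Facts
import Cfsg.Prelude.Def_Transfer

/-!
A Sylow 2-subgroup of `Fi23` and its elementary abelian normal subgroups.
-/

set_option autoImplicit false

open scoped Pointwise

namespace Cfsg.Agent.H87.Fi23Sylow

open Cfsg.Agent.H25.Fi23

/-- the chain as elements -/
noncomputable def gsX : List (X × List ℕ) := gP.map fun p => (el p.1, p.2)

/-- the Sylow subgroup -/
noncomputable def T0 : Subgroup X := uOf (basisB_sound eW_ok) gsX

/-- the elementary abelian subgroup of order `2^11` -/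
noncomputable def E0 : Subgroup X := (basisB_sound eW_ok).span

theorem t0_facts : Nat.card T0 = 2 ^ 18 ∧ Nat.card E0 = 2 ^ 11 ∧ E0 ≤ T0 ∧
    (∀ t ∈ T0, ∀ e ∈ E0, t * e * t⁻¹ ∈ E0) ∧ Cfsg.IsElementaryAbelian 2 E0 ∧
    ∀ A : Subgroup X, A ≤ T0 → Cfsg.IsElementaryAbelian 2 A → A ≤ E0 ∨ Nat.card A ≤ 2 ^ 10 := by
  have := order_facts.1
  set hB := basisB_sound eW_ok
  have hgood : Good hB gsX := goodB_sound hB gP_ok
  have hlen : (eW.map el).length = 11 := by rw [List.length_map]; rfl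
  obtain ⟨hcard, hmem⟩ := chain_facts hB hgood
  refine ⟨?_, ?_, span_le_uOf hB _, ?_, ?_, fun A hA hEA => ?_⟩
  · rw [show T0 = uOf hB gsX from rfl, hcard, hlen, show gsX.length = 7 from List.length_map ..]
  · rw [show E0 = hB.span from rfl, hB.card_span, hlen]
  · intro t ht e he
    obtain ⟨M, -, hr, -⟩ := hmem t ht
    obtain ⟨v, -, rfl⟩ := he
    exact ⟨mv M v, mv_lt M hr.lt v, (hr.apply hB v).symm⟩
  · refine ⟨⟨⟨fun a b => Subtype.ext ?_⟩⟩, fun a ha => ?_⟩
    · obtain ⟨v, -, hv⟩ := a.2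
      obtain ⟨w, -, hw⟩ := b.2
      show (a : X) * b = b * a
      rw [← hv, ← hw, ← hB.xor, ← hB.xor, Nat.xor_comm]
    · obtain ⟨v, -, rfl⟩ := ha
      rw [pow_two, ← hB.xor, Nat.xor_self, ev_zero]
  · have hK : Checks (eW.map el).length (msOf (eW.map el).length (gsX.map Prod.snd)) Js cm mt := by
      rw [hlen, show gsX.map Prod.snd = gP.map Prod.snd by simp [gsX, List.map_map, Function.comp_def]]
      exact checksB_sound checks_ok
    obtain ⟨hc, hsq⟩ := hEA
    refine ea_bound hB hgood hlen hK hA (fun a ha b hb => ?_) (fun a ha => ?_)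
    · exact congrArg Subtype.val (hc.is_comm.comm (⟨a, ha⟩ : A) ⟨b, hb⟩)
    · rw [← pow_two]; exact hsq a ha

theorem sylow_statement (T : Sylow 2 X) :
    (∀ A : Subgroup X, A ≤ T → (A.subgroupOf T).Normal → Cfsg.IsElementaryAbelian 2 A →
        Nat.card A ≤ 2 ^ 11) ∧
    ∃! A : Subgroup X, A ≤ T ∧ (A.subgroupOf T).Normal ∧ Cfsg.IsElementaryAbelian 2 A ∧
        Nat.card A = 2 ^ 11 := by
  obtain ⟨hfin, hX, -⟩ := order_facts
  have := hfin
  have : Fact (Nat.Prime 2) := ⟨Nat.prime_two⟩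
  obtain ⟨hT0, hE0, hET, hnorm, hEA, hbound⟩ := t0_facts
  have hpart : Nat.card T0 = 2 ^ (Nat.card X).factorization 2 := by
    rw [hT0, hX]
    congr 1
    refine le_antisymm ?_ ?_
    · exact (Nat.prime_two.pow_dvd_iff_le_factorization (by norm_num)).mp (by norm_num)
    · by_contra h
      push Not at h
      have h19 : 2 ^ 19 ∣ 4089470473293004800 :=
        (Nat.prime_two.pow_dvd_iff_le_factorization (by norm_num)).mpr h
      norm_num at h19
  obtain ⟨x, rfl⟩ := MulAction.exists_smul_eq X (Sylow.ofCard T0 hpart) T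
  have hT : ((x • Sylow.ofCard T0 hpart : Sylow 2 X) : Subgroup X) =
      T0.map (MulAut.conj x).toMonoidHom := by
    rw [Sylow.coe_subgroup_smul]
    rfl
  set c := MulAut.conj x
  have hinjc : Function.Injective c.toMonoidHom := c.injective
  have key : ∀ A : Subgroup X, A ≤ T0.map c.toMonoidHom → Cfsg.IsElementaryAbelian 2 A →
      Nat.card A ≤ 2 ^ 11 ∧ (Nat.card A = 2 ^ 11 → A = E0.map c.toMonoidHom) := by
    intro A hA hAE
    set B := A.comap c.toMonoidHom
    have hAB : B.map c.toMonoidHom = A := Subgroup.map_comap_eq_self_of_surjective c.surjective A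
    have hcardB : Nat.card B = Nat.card A := by
      rw [← hAB, Subgroup.card_map_of_injective hinjc]
    have hB : B ≤ T0 := fun b hb => by
      obtain ⟨y, hy, hyb⟩ := hA hb
      exact hinjc hyb ▸ hy
    have hBE : Cfsg.IsElementaryAbelian 2 B := by
      obtain ⟨hc, hsq⟩ := hAE
      refine ⟨⟨⟨fun a b => Subtype.ext (hinjc ?_)⟩⟩, fun a ha => hinjc ?_⟩
      · show c.toMonoidHom ((a : X) * b) = c.toMonoidHom ((b : X) * a)
        rw [map_mul, map_mul]
        exact congrArg Subtype.val (hc.is_comm.comm (⟨_, a.2⟩ : A) ⟨_, b.2⟩)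
      · rw [map_pow, map_one]
        exact hsq _ ha
    rcases hbound B hB hBE with h | h
    · refine ⟨hcardB ▸ (Subgroup.card_le_of_le h).trans hE0.le, fun he => ?_⟩
      rw [← hAB, Subgroup.eq_of_le_of_card_ge h (by rw [hE0, hcardB, he])]
    · rw [hcardB] at h
      exact ⟨h.trans (by norm_num), fun he => absurd (he ▸ h) (by norm_num)⟩
  rw [hT]
  refine ⟨fun A hA _ hAE => (key A hA hAE).1,
    E0.map c.toMonoidHom, ⟨Subgroup.map_mono hET, ⟨fun a ha t => ?_⟩, ?_, ?_⟩,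
    fun A ⟨hA, _, hAE, hc⟩ => (key A hA hAE).2 hc⟩
  · obtain ⟨t0, ht0, htt⟩ := t.2
    obtain ⟨e, he, hea⟩ := Subgroup.mem_subgroupOf.mp ha
    rw [Subgroup.mem_subgroupOf]
    refine ⟨t0 * e * t0⁻¹, hnorm t0 ht0 e he, ?_⟩
    simp only [map_mul, map_inv, htt, hea, Subgroup.coe_mul, Subgroup.coe_inv]
  · obtain ⟨hc, hsq⟩ := hEA
    refine ⟨⟨⟨?_⟩⟩, ?_⟩
    · rintro ⟨_, a, ha, rfl⟩ ⟨_, b, hb, rfl⟩
      refine Subtype.ext ?_
      show c.toMonoidHom a * c.toMonoidHom b = c.toMonoidHom b * c.toMonoidHom a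
      rw [← map_mul, ← map_mul]
      exact congrArg c.toMonoidHom (congrArg Subtype.val (hc.is_comm.comm (⟨a, ha⟩ : E0) ⟨b, hb⟩))
    · rintro _ ⟨a, ha, rfl⟩
      rw [← map_pow, hsq a ha, map_one]
  · rw [Subgroup.card_map_of_injective hinjc, hE0]

end Cfsg.Agent.H87.Fi23Sylow
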