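import Mathlib

/-!
An elementary abelian group with a basis and a chain of involutions acting on it by binary matrices.
A matrix is the list of the images of the basis vectors, a vector being a natural number.
-/

set_option autoImplicit false

namespace Cfsg.Agent.H87.Fi23Sylow

/-- the linear combination of columns -/
def mv : List ℕ → ℕ → ℕ
  | [], _ => 0
  | c :: cs, v => cond (Nat.beq (v % 2) 1) c 0 ^^^ mv cs (v / 2)

/-- the identity matrix -/
def idM : ℕ → List ℕ
  | 0 => []
  | n + 1 => 1 :: (idM n).map (2 * ·)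

/-- the product of matrices -/
def comp (M N : List ℕ) : List ℕ := N.map (mv M)

/-- the matrices of the products along a chain -/
def msOf (n : ℕ) : List (List ℕ) → List (List ℕ)
  | [] => [idM n]
  | M :: rest => msOf n rest ++ (msOf n rest).map (comp M)

theorem parity_eq (v : ℕ) : Nat.beq (v % 2) 1 = v.testBit 0 := by
  rw [Nat.testBit_zero]
  rcases Nat.mod_two_eq_zero_or_one v with h | h <;> rw [h] <;> rfl

theorem parity_xor (a b : ℕ) :
    Nat.beq ((a ^^^ b) % 2) 1 = xor (Nat.beq (a % 2) 1) (Nat.beq (b % 2) 1) := by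
  simp only [parity_eq, Nat.testBit_xor]

theorem beq_zero_one : Nat.beq 0 1 = false := rfl

theorem double_xor (x y : ℕ) : 2 * (x ^^^ y) = 2 * x ^^^ 2 * y := by
  apply Nat.eq_of_testBit_eq
  intro i
  cases i <;> simp [Nat.testBit_zero, Nat.testBit_succ, Nat.xor_div_two]

theorem mv_xor : ∀ (cs : List ℕ) (a b : ℕ), mv cs (a ^^^ b) = mv cs a ^^^ mv cs b
  | [], _, _ => by simp [mv]
  | c :: cs, a, b => by
    simp only [mv, parity_xor, Nat.xor_div_two, mv_xor cs]
    cases Nat.beq (a % 2) 1 <;> cases Nat.beq (b % 2) 1 <;>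
      simp [Nat.xor_assoc, Nat.xor_left_comm]

theorem mv_zero : ∀ cs : List ℕ, mv cs 0 = 0
  | [] => rfl
  | c :: cs => by simp [mv, mv_zero cs, beq_zero_one]

theorem mv_lt {m : ℕ} : ∀ (cs : List ℕ), (∀ c ∈ cs, c < 2 ^ m) → ∀ v, mv cs v < 2 ^ m
  | [], _, _ => by simp [mv]
  | c :: cs, h, v => by
    refine Nat.xor_lt_two_pow ?_ (mv_lt cs (fun x hx => h x (by simp [hx])) _)
    cases Nat.beq (v % 2) 1
    · simp
    · simpa using h c (by simp)

theorem length_idM : ∀ n, (idM n).length = n
  | 0 => rfl
  | n + 1 => by simp [idM, length_idM n]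

theorem idM_lt : ∀ {n c : ℕ}, c ∈ idM n → c < 2 ^ n
  | 0, c, h => by simp [idM] at h
  | n + 1, c, h => by
    rcases List.mem_cons.mp h with rfl | h
    · exact Nat.one_lt_two_pow (Nat.succ_ne_zero n)
    · obtain ⟨d, hd, rfl⟩ := List.mem_map.mp h
      have := idM_lt hd
      rw [pow_succ]; omega

theorem mv_double : ∀ (cs : List ℕ) (v : ℕ), mv (cs.map (2 * ·)) v = 2 * mv cs v
  | [], _ => by simp [mv]
  | c :: cs, v => by
    simp only [List.map_cons, mv, mv_double cs]
    rw [double_xor]
    cases Nat.beq (v % 2) 1 <;> simp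

theorem one_xor_double (w : ℕ) : 1 ^^^ 2 * w = 2 * w + 1 := by
  apply Nat.eq_of_testBit_eq
  intro i
  cases i with
  | zero => simp [Nat.testBit_zero]
  | succ i =>
    rw [Nat.testBit_xor, Nat.testBit_succ, Nat.testBit_succ, Nat.testBit_succ,
      show (2 * w + 1) / 2 = w by omega, show 2 * w / 2 = w by omega]
    simp

theorem mv_idM : ∀ (n : ℕ) {v : ℕ}, v < 2 ^ n → mv (idM n) v = v
  | 0, v, h => by
    rw [pow_zero, Nat.lt_one_iff] at h
    simp [idM, mv, h]
  | n + 1, v, h => by
    simp only [idM, mv, mv_double]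
    rw [pow_succ] at h
    have h2 : v / 2 < 2 ^ n := Nat.div_lt_of_lt_mul (by rw [mul_comm]; exact h)
    rw [mv_idM n h2]
    have hd := Nat.div_add_mod v 2
    rcases Nat.mod_two_eq_zero_or_one v with h' | h' <;> rw [h'] at hd ⊢
    · rw [beq_zero_one, cond_false, Nat.zero_xor]
      omega
    · rw [show Nat.beq 1 1 = true from rfl, cond_true, one_xor_double]
      omega

variable {G : Type*} [Group G]

/-- the product of basis elements -/
def ev : List G → ℕ → G
  | [], _ => 1
  | e :: es, v => cond (Nat.beq (v % 2) 1) e 1 * ev es (v / 2)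

theorem ev_zero : ∀ es : List G, ev es 0 = 1
  | [] => rfl
  | e :: es => by simp [ev, ev_zero es, beq_zero_one]

theorem map_ev {K : Type*} [Group K] (f : G →* K) : ∀ (es : List G) (v : ℕ), f (ev es v) = ev (es.map f) v
  | [], _ => by simp [ev]
  | e :: es, v => by
    simp only [ev, List.map_cons, map_mul, map_ev f es]
    cases Nat.beq (v % 2) 1 <;> simp

theorem commute_ev {x : G} : ∀ {es : List G}, (∀ e ∈ es, Commute x e) → ∀ v, Commute x (ev es v)
  | [], _, v => Commute.one_right x
  | e :: es, h, v => by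
    refine Commute.mul_right ?_ (commute_ev (fun y hy => h y (by simp [hy])) _)
    cases Nat.beq (v % 2) 1
    · exact Commute.one_right x
    · exact h e (by simp)

/-- an elementary abelian basis -/
structure Basis (es : List G) : Prop where
  comm : ∀ x ∈ es, ∀ y ∈ es, Commute x y
  sq : ∀ x ∈ es, x * x = 1
  inj : ∀ v, v < 2 ^ es.length → ev es v = 1 → v = 0

theorem ev_xor : ∀ {es : List G}, (∀ x ∈ es, ∀ y ∈ es, Commute x y) → (∀ x ∈ es, x * x = 1) →
    ∀ a b, ev es (a ^^^ b) = ev es a * ev es b
  | [], _, _, _, _ => by simp [ev]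
  | e :: es, hc, hs, a, b => by
    have hc' : ∀ x ∈ es, ∀ y ∈ es, Commute x y := fun x hx y hy =>
      hc x (List.mem_cons_of_mem _ hx) y (List.mem_cons_of_mem _ hy)
    have hs' : ∀ x ∈ es, x * x = 1 := fun x hx => hs x (List.mem_cons_of_mem _ hx)
    have he : Commute (ev es (a / 2)) e :=
      (commute_ev (fun y hy => hc e (by simp) y (by simp [hy])) _).symm
    have h2 := hs e (by simp)
    simp only [ev, parity_xor, Nat.xor_div_two, ev_xor hc' hs']
    cases Nat.beq (a % 2) 1 <;> cases Nat.beq (b % 2) 1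
    · simp
    · simp only [Bool.false_xor, cond_true, cond_false, one_mul]
      rw [← mul_assoc, ← mul_assoc, he.eq]
    · simp [mul_assoc]
    · simp only [Bool.xor_self, cond_false, cond_true, one_mul]
      rw [mul_assoc e, ← mul_assoc (ev es (a / 2)) e, he.eq, mul_assoc e, ← mul_assoc e e, h2, one_mul]

theorem Basis.xor {es : List G} (hB : Basis es) (a b : ℕ) : ev es (a ^^^ b) = ev es a * ev es b :=
  ev_xor hB.comm hB.sq a b

theorem Basis.eq_of {es : List G} (hB : Basis es) {a b : ℕ} (ha : a < 2 ^ es.length)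
    (hb : b < 2 ^ es.length) (h : ev es a = ev es b) : a = b := by
  have h1 : ev es (a ^^^ b) = 1 := by
    rw [hB.xor, h, ← hB.xor, Nat.xor_self, ev_zero]
  simpa using congrArg (· ^^^ b) (hB.inj _ (Nat.xor_lt_two_pow ha hb) h1)

theorem ev_mv {es : List G} (hB : Basis es) : ∀ (cs : List ℕ) (v : ℕ),
    ev es (mv cs v) = ev (cs.map (ev es)) v
  | [], _ => by simp [mv, ev, ev_zero]
  | c :: cs, v => by
    simp only [mv, ev, List.map_cons, hB.xor, ev_mv hB cs]
    cases Nat.beq (v % 2) 1 <;> simp [ev_zero]

theorem map_ev_idM : ∀ es : List G, (idM es.length).map (ev es) = es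
  | [] => rfl
  | e :: es => by
    simp only [List.length_cons, idM, List.map_cons, List.map_map]
    congr 1
    · simp [ev, ev_zero]
    · conv_rhs => rw [← map_ev_idM es]
      refine List.map_congr_left fun v _ => ?_
      simp [ev, show Nat.beq 0 1 = false from rfl]

/-- the elementary abelian subgroup -/
def Basis.span {es : List G} (hB : Basis es) : Subgroup G where
  carrier := {x | ∃ v, v < 2 ^ es.length ∧ ev es v = x}
  one_mem' := ⟨0, Nat.two_pow_pos _, ev_zero es⟩
  mul_mem' := by
    rintro _ _ ⟨a, ha, rfl⟩ ⟨b, hb, rfl⟩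
    exact ⟨a ^^^ b, Nat.xor_lt_two_pow ha hb, hB.xor a b⟩
  inv_mem' := by
    rintro _ ⟨a, ha, rfl⟩
    refine ⟨a, ha, eq_inv_of_mul_eq_one_left ?_⟩
    rw [← hB.xor, Nat.xor_self, ev_zero]

theorem Basis.mem_span {es : List G} (hB : Basis es) {x : G} :
    x ∈ hB.span ↔ ∃ v, v < 2 ^ es.length ∧ ev es v = x := Iff.rfl

theorem Basis.card_span {es : List G} (hB : Basis es) : Nat.card hB.span = 2 ^ es.length := by
  rw [← Nat.card_fin (2 ^ es.length)]
  refine (Nat.card_congr (Equiv.ofBijective
    (fun v : Fin (2 ^ es.length) => (⟨ev es v, v, v.isLt, rfl⟩ : hB.span)) ⟨?_, ?_⟩)).symm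
  · intro a b h
    exact Fin.ext (hB.eq_of a.isLt b.isLt (congrArg Subtype.val h))
  · rintro ⟨_, v, hv, rfl⟩
    exact ⟨⟨v, hv⟩, rfl⟩

/-- conjugation by an element has the given matrix -/
structure Rep (es : List G) (t : G) (M : List ℕ) : Prop where
  len : M.length = es.length
  lt : ∀ c ∈ M, c < 2 ^ es.length
  eq : es.map (fun x => t * x * t⁻¹) = M.map (ev es)

theorem Rep.apply {es : List G} (hB : Basis es) {t : G} {M : List ℕ} (h : Rep es t M) (v : ℕ) :
    t * ev es v * t⁻¹ = ev es (mv M v) := by
  rw [ev_mv hB, ← h.eq]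
  exact map_ev (MulAut.conj t).toMonoidHom es v

theorem Rep.mul {es : List G} (hB : Basis es) {t s : G} {M N : List ℕ} (h : Rep es t M)
    (h' : Rep es s N) : Rep es (t * s) (comp M N) := by
  refine ⟨by rw [comp, List.length_map, h'.len], fun c hc => ?_, ?_⟩
  · obtain ⟨x, -, rfl⟩ := List.mem_map.mp hc
    exact mv_lt M h.lt x
  · have : (es.map fun x => t * s * x * (t * s)⁻¹) =
        (es.map fun x => s * x * s⁻¹).map fun x => t * x * t⁻¹ := by
      rw [List.map_map]
      exact List.map_congr_left fun x _ => by simp [mul_assoc]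
    rw [this, h'.eq, comp, List.map_map, List.map_map]
    exact List.map_congr_left fun x _ => h.apply hB x

theorem Rep.uniq {es : List G} (hB : Basis es) {t : G} {M N : List ℕ} (h : Rep es t M)
    (h' : Rep es t N) : M = N := by
  have he := h.eq.symm.trans h'.eq
  refine List.ext_getElem (h.len.trans h'.len.symm) fun i hi hi' => ?_
  have := congrArg (fun l => l[i]?) he
  simp only [List.getElem?_map, List.getElem?_eq_getElem hi, List.getElem?_eq_getElem hi',
    Option.map_some, Option.some.injEq] at this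
  exact hB.eq_of (h.lt _ (List.getElem_mem hi)) (h'.lt _ (List.getElem_mem hi')) this

theorem rep_id {es : List G} {t : G} (h : ∀ x ∈ es, t * x * t⁻¹ = x) :
    Rep es t (idM es.length) := by
  refine ⟨length_idM _, fun c hc => idM_lt hc, ?_⟩
  rw [map_ev_idM, List.map_congr_left h, List.map_id']

/-- the group of a chain -/
def uOf {es : List G} (hB : Basis es) : List (G × List ℕ) → Subgroup G
  | [] => hB.span
  | p :: rest => uOf hB rest ⊔ Subgroup.zpowers p.1

/-- the hypotheses on a chain -/
def Good {es : List G} (hB : Basis es) : List (G × List ℕ) → Prop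
  | [] => True
  | p :: rest => p.1 * p.1 = 1 ∧ Rep es p.1 p.2 ∧ (∀ q ∈ rest, p.1 * q.1 * p.1⁻¹ ∈ uOf hB rest) ∧
      p.2 ∉ msOf es.length (rest.map Prod.snd) ∧ Good hB rest

theorem span_le_uOf {es : List G} (hB : Basis es) : ∀ gs, hB.span ≤ uOf hB gs
  | [] => le_rfl
  | _ :: rest => (span_le_uOf hB rest).trans le_sup_left

/-- the subgroup together with its translate by a normalising involution -/
def extend (K : Subgroup G) (g : G) (hg : g * g = 1) (hn : ∀ k ∈ K, g * k * g⁻¹ ∈ K) : Subgroup G where
  carrier := {x | x ∈ K ∨ g * x ∈ K}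
  one_mem' := Or.inl K.one_mem
  mul_mem' := by
    have hi : g⁻¹ = g := inv_eq_of_mul_eq_one_right hg
    have hgg : ∀ z : G, g * (g * z) = z := fun z => by rw [← mul_assoc, hg, one_mul]
    rintro a b (ha | ha) (hb | hb)
    · exact Or.inl (K.mul_mem ha hb)
    · refine Or.inr ?_
      have := K.mul_mem (hn a ha) hb
      rw [hi] at this
      simpa [mul_assoc, hgg] using this
    · exact Or.inr (by simpa [mul_assoc] using K.mul_mem ha hb)
    · refine Or.inl ?_
      have := K.mul_mem (hn _ ha) hb
      rw [hi] at this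
      simpa [mul_assoc, hgg] using this
  inv_mem' := by
    have hi : g⁻¹ = g := inv_eq_of_mul_eq_one_right hg
    rintro a (ha | ha)
    · exact Or.inl (K.inv_mem ha)
    · refine Or.inr ?_
      have := hn _ (K.inv_mem ha)
      simpa [mul_assoc, mul_inv_rev, hi, hg] using this

theorem chain_facts [Finite G] {es : List G} (hB : Basis es) : ∀ {gs}, Good hB gs →
    Nat.card (uOf hB gs) = 2 ^ (es.length + gs.length) ∧
      ∀ t ∈ uOf hB gs, ∃ M ∈ msOf es.length (gs.map Prod.snd),
        Rep es t M ∧ (M = idM es.length → t ∈ hB.span) := by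
  intro gs
  induction gs with
  | nil =>
    intro _
    refine ⟨hB.card_span, fun t ht => ⟨_, List.mem_singleton_self _, rep_id fun x hx => ?_, fun _ => ht⟩⟩
    obtain ⟨v, -, rfl⟩ := ht
    rw [(commute_ev (fun y hy => hB.comm x hx y hy) v).symm.eq, mul_assoc, mul_inv_cancel, mul_one]
  | cons p rest ih =>
    intro hg
    obtain ⟨hsq, hrep, hconj, hnew, hrest⟩ := hg
    obtain ⟨hcard, hmem⟩ := ih hrest
    have hn : ∀ k ∈ uOf hB rest, p.1 * k * p.1⁻¹ ∈ uOf hB rest := by
      have key : ∀ l, (∀ q ∈ l, p.1 * q.1 * p.1⁻¹ ∈ uOf hB rest) →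
          uOf hB l ≤ (uOf hB rest).comap (MulAut.conj p.1).toMonoidHom := by
        intro l
        induction l with
        | nil =>
          intro _ x hx
          obtain ⟨v, -, rfl⟩ := hx
          refine span_le_uOf hB rest ⟨mv p.2 v, ?_, (hrep.apply hB v).symm⟩
          exact mv_lt _ hrep.lt v
        | cons q l ihl =>
          intro hl
          exact sup_le (ihl fun r hr => hl r (List.mem_cons_of_mem _ hr))
            ((Subgroup.zpowers_le).mpr (hl q List.mem_cons_self))
      exact fun k hk => key rest hconj hk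
    have hnot : p.1 ∉ uOf hB rest := fun h => by
      obtain ⟨M, hM, hMr, -⟩ := hmem _ h
      exact hnew (hrep.uniq hB hMr ▸ hM)
    have hE : uOf hB (p :: rest) = extend (uOf hB rest) p.1 hsq hn := by
      refine le_antisymm (sup_le (fun x hx => Or.inl hx) ((Subgroup.zpowers_le).mpr (Or.inr ?_))) ?_
      · rw [hsq]; exact one_mem _
      · rintro x (hx | hx)
        · exact Subgroup.mem_sup_left hx
        · have := mul_mem (Subgroup.mem_sup_right (S := uOf hB rest) (Subgroup.mem_zpowers p.1))
            (Subgroup.mem_sup_left (T := Subgroup.zpowers p.1) hx)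
          rwa [← mul_assoc, hsq, one_mul] at this
    constructor
    · have hset : ((uOf hB (p :: rest) : Subgroup G) : Set G) =
          (uOf hB rest : Set G) ∪ (fun x => p.1 * x) '' (uOf hB rest : Set G) := by
        rw [hE]
        ext x
        constructor
        · rintro (hx | hx)
          · exact Or.inl hx
          · exact Or.inr ⟨_, hx, by show p.1 * (p.1 * x) = x; rw [← mul_assoc, hsq, one_mul]⟩
        · rintro (hx | ⟨y, hy, rfl⟩)
          · exact Or.inl hx
          · exact Or.inr (by rw [← mul_assoc, hsq, one_mul]; exact hy)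
      have hdis : Disjoint (uOf hB rest : Set G) ((fun x => p.1 * x) '' (uOf hB rest : Set G)) := by
        rw [Set.disjoint_left]
        rintro _ hx ⟨y, hy, rfl⟩
        have := mul_mem hx (inv_mem hy)
        exact hnot (by simpa [mul_assoc] using this)
      rw [← SetLike.coe_sort_coe, Nat.card_coe_set_eq, hset, Set.ncard_union_eq hdis,
        Set.ncard_image_of_injective _ (mul_right_injective _), ← Nat.card_coe_set_eq,
        SetLike.coe_sort_coe, hcard, List.length_cons, ← Nat.add_assoc, pow_succ]
      ring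
    · intro t ht
      rw [hE] at ht
      rcases ht with ht | ht
      · obtain ⟨M, hM, hr, hid⟩ := hmem t ht
        exact ⟨M, List.mem_append_left _ hM, hr, hid⟩
      · obtain ⟨N, hN, hr, -⟩ := hmem _ ht
        have hrt : Rep es t (comp p.2 N) := by
          have := hrep.mul hB hr
          rwa [← mul_assoc, hsq, one_mul] at this
        refine ⟨_, List.mem_append_right _ (List.mem_map.mpr ⟨N, hN, rfl⟩), hrt, fun hid => ?_⟩
        rw [hid] at hrt
        obtain ⟨N', hN', hr', -⟩ := hmem _ (inv_mem ht)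
        refine absurd hN' ?_
        have h1 : Rep es p.1 N' := by
          refine ⟨hr'.len, hr'.lt, ?_⟩
          rw [← hr'.eq]
          refine List.map_congr_left fun x hx => ?_
          obtain ⟨v, hlt, hv⟩ : ∃ v, v < 2 ^ es.length ∧ ev es v = x := by
            obtain ⟨v, hv, he⟩ := List.mem_map.mp ((map_ev_idM es).symm ▸ hx :
              x ∈ (idM es.length).map (ev es))
            exact ⟨v, idM_lt hv, he⟩
          have hfix : ∀ w, w < 2 ^ es.length → t⁻¹ * ev es w * t = ev es w := by
            intro w hw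
            have := hrt.apply hB w
            rw [mv_idM _ hw] at this
            rw [mul_assoc, ← mul_inv_eq_iff_eq_mul.mp this, inv_mul_cancel_left]
          have hy : p.1 * x * p.1⁻¹ = ev es (mv p.2 v) := hv ▸ hrep.apply hB v
          have h3 := hfix (mv p.2 v) (mv_lt _ hrep.lt v)
          rw [← hy, inv_eq_of_mul_eq_one_right hsq] at h3
          simp only [mul_inv_rev, inv_inv, inv_eq_of_mul_eq_one_right hsq]
          rw [← h3]
          simp only [mul_assoc]
        exact (hrep.uniq hB h1) ▸ hnew

end Cfsg.Agent.H87.Fi23Sylow
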